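import Mathlib
import Cfsg.Agent.Nodes.NormalForm
import Cfsg.Agent.Nodes.CardSup

/-!
# S5745: the stabiliser of a root element modulo higher terms (helper38)

`R` root group data, `Ψ` a set of positive roots outside `J` which absorbs `J`, `α` a `J`-highest root modulo `Ψ`.

* `stab_mem_PJ` : an element of `L_J` which moves an element of `D ∖ B` (`D = Sup X ({α} ∪ Ψ)`, `B = Sup X Ψ`) into `D` lies in
  `P_{J₀}`, `J₀ = {i ∈ J | s_i α = α}`.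
-/

set_option autoImplicit false
set_option linter.unusedSectionVars false

namespace Cfsg.Agent.H38.TS

open CoxeterSystem Cfsg.Agent.ChevalleyStructure.CoxeterGeom Cfsg.Agent.Tits.Roots Cfsg.Agent.Tits.Core
  Cfsg.Agent.Tits.Exchange Cfsg.Agent.Nodes.Reps Cfsg.Agent.Nodes.BNOf Cfsg.Agent.Nodes.StabComb
  Cfsg.Agent.Nodes.Bruhat Cfsg.Agent.Nodes.OppDec Cfsg.Agent.Nodes.LeviDec Cfsg.Agent.Nodes.NormalForm
  Cfsg.Agent.Nodes.Unique Cfsg.Agent.Nodes.CardSup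
open scoped commutatorElement

variable {I W Y : Type*} [Fintype I] [DecidableEq I] [Group W] [Group Y] {M : CoxeterMatrix I}
  {cs : CoxeterSystem M W} {A : I → I → ℤ} {h : IsCartan M A} {p : ℕ} {T : Subgroup Y} {n : I → Y}
  {X : (I → ℤ) → Subgroup Y}

/-! ### combinatorics -/

theorem mem_of_descent {J : Set I} {w : W} (hw : w ∈ WJ cs J) {i : I} (hi : rep cs h w (sr i) ≤ 0) : i ∈ J := by
  by_contra hiJ
  have h1 := (NotJ.act (h := h) hw (sr_mem_NotJ hiJ))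
  exact (h1.1).not_pos_neg h1.2.1 hi

/-- the stabiliser in `W_J` of a `J`-dominant vector -/
theorem mem_WJ_of_rep_rel [Finite W] {J : Set I} {r : I → ℤ} (hr : ∀ i ∈ J, 0 ≤ pairing A i r) : ∀ {w : W}, w ∈ WJ cs J →
    rep cs h w r = r → w ∈ WJ cs {i | i ∈ J ∧ rep cs h (cs.simple i) r = r} := by
  have := Fintype.ofFinite W
  intro w
  induction hn : cs.length w using Nat.strong_induction_on generalizing w with
  | _ N ih =>
  intro hwJ hw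
  by_cases hw1 : w = 1
  · rw [hw1]; exact one_mem _
  obtain ⟨i, hi⟩ := cs.exists_rightDescent_of_ne_one hw1
  have hi' : cs.length (w * cs.simple i) < cs.length w := hi
  have hneg : rep cs h w (sr i) ≤ 0 := nonpos_of_lt cs h w i hi'
  have hiJ : i ∈ J := mem_of_descent hwJ hneg
  have h1 : 0 ≤ form cs h r (sr i) := (form_sr_nonneg_iff cs h i r).2 (hr i hiJ)
  have h2 : form cs h r (sr i) = form cs h r (rep cs h w (sr i)) := by
    conv_rhs => rw [← hw]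
    rw [form_rep]
  have h3 : 0 ≤ form cs h r (-rep cs h w (sr i)) := by
    rw [form_eq_sum]
    refine Finset.sum_nonneg fun k _ => ?_
    by_cases hk : k ∈ J
    · exact mul_nonneg (neg_nonneg.2 (hneg k)) ((form_sr_nonneg_iff cs h k r).2 (hr k hk))
    · have h4 : rep cs h w (sr i) k = 0 := (RootsJ.act hwJ (PosJ_subset J (sr_mem_PosJ (cs := cs) (h := h) hiJ))).2 k hk
      rw [Pi.neg_apply, h4, neg_zero, zero_mul]
  rw [form_neg_right, ← h2] at h3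
  have h4 : form cs h r (sr i) = 0 := by omega
  have h5 : pairing A i r = 0 := by
    have h6 := (form_sr_nonneg_iff cs h i r).1 h4.ge
    by_contra h7
    have h8 : 0 < pairing A i r := lt_of_le_of_ne h6 (Ne.symm h7)
    have := (form_sr_pos_iff cs h i r).2 h8
    omega
  have hio : rep cs h (cs.simple i) r = r := mem_orth.2 h5
  have h6 := ih _ (by omega) (w := w * cs.simple i) rfl (mul_mem hwJ (simple_mem_WJ cs hiJ)) (by
    rw [rep_mul_apply, hio, hw])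
  have h7 : w = w * cs.simple i * cs.simple i := by rw [mul_assoc, simple_mul_simple_self, mul_one]
  rw [h7]
  exact mul_mem h6 (simple_mem_WJ cs ⟨hiJ, hio⟩)

/-- `Ψ` is a closed set of positive roots outside `J`, stable under `J` -/
structure Abs (cs : CoxeterSystem M W) (h : IsCartan M A) (J : Set I) (Ψ : Set (I → ℤ)) : Prop where
  sub : Ψ ⊆ NotJ cs h J
  act : ∀ w ∈ WJ cs J, ∀ β ∈ Ψ, rep cs h w β ∈ Ψ
  abs : ∀ γ ∈ RootsJ cs h J, ∀ β ∈ Ψ, ∀ z, Btwn cs h γ β z → z ∈ Ψ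
  closed : Closed cs h Ψ

/-- `α` is a `J`-highest root modulo `Ψ` -/
structure Hi (cs : CoxeterSystem M W) (h : IsCartan M A) (J : Set I) (Ψ : Set (I → ℤ)) (α : I → ℤ) : Prop where
  mem : α ∈ NotJ cs h J
  not_mem : α ∉ Ψ
  dom : ∀ i ∈ J, 0 ≤ pairing A i α
  hi : ∀ γ ∈ PosJ cs h J, ∀ z, Btwn cs h γ α z → z ∈ Ψ
  cl : ∀ β ∈ Ψ, ∀ z, Btwn cs h α β z → z ∈ Ψ

variable {J : Set I} {Ψ : Set (I → ℤ)} {α : I → ℤ}

theorem Abs.subPos (hΨ : Abs cs h J Ψ) : Ψ ⊆ RGD.Pos cs h := fun _ hx => ⟨(hΨ.sub hx).1, (hΨ.sub hx).2.1⟩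

theorem NotJ.subPos {x : I → ℤ} (hx : x ∈ NotJ cs h J) : x ∈ RGD.Pos cs h := ⟨hx.1, hx.2.1⟩

theorem closed_insert {S : Set (I → ℤ)} (hS : Closed cs h S) {x : I → ℤ} (hx : IsRoot cs h x)
    (hc : ∀ β ∈ S, ∀ z, Btwn cs h x β z → z ∈ S) : Closed cs h ({x} ∪ S) := by
  rintro a (ha | ha) b (hb | hb) z hz
  · rw [Set.mem_singleton_iff] at ha hb
    subst ha hb
    left
    exact btwn_self hx hz
  · rw [Set.mem_singleton_iff] at ha
    subst ha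
    exact Or.inr (hc b hb z hz)
  · rw [Set.mem_singleton_iff] at hb
    subst hb
    exact Or.inr (hc a ha z hz.symm)
  · exact Or.inr (hS a ha b hb z hz)

/-- conjugates of `α` -/
theorem Hi.cl_act (hα : Hi cs h J Ψ α) (hΨ : Abs cs h J Ψ) {w : W} (hw : w ∈ WJ cs J) :
    ∀ β ∈ Ψ, ∀ z, Btwn cs h (rep cs h w α) β z → z ∈ Ψ := by
  intro β hβ z hz
  have h1 := hz.act w⁻¹
  rw [rep_inv_apply] at h1
  have h2 := hα.cl _ (hΨ.act _ (inv_mem hw) β hβ) _ h1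
  have h3 := hΨ.act _ hw _ h2
  rwa [rep_apply_inv] at h3

theorem Hi.not_mem_act (hα : Hi cs h J Ψ α) (hΨ : Abs cs h J Ψ) {w : W} (hw : w ∈ WJ cs J) : rep cs h w α ∉ Ψ := by
  intro h1
  have h2 := hΨ.act _ (inv_mem hw) _ h1
  rw [rep_inv_apply] at h2
  exact hα.not_mem h2

variable (R : RGD cs h p T n X)

include R

theorem LJ_le_norm (hΨ : Abs cs h J Ψ) : LJ cs h T X J ≤ Subgroup.normalizer (RGD.Sup X Ψ : Set Y) := by
  refine sup_le (R.T_le_normalizer fun _ hx => (hΨ.sub hx).1) (RGD.Sup_le fun x hx => ?_)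
  refine R.le_normalizer hx.1 fun y hy => ⟨(hΨ.sub hy).1, Or.inr ⟨ne_neg_of_NotJ hx (hΨ.sub hy), fun z hz => hΨ.abs x hx y hy z hz⟩⟩

/-- `B_J` normalises `Sup X ({α} ∪ Ψ)` -/
theorem BJ_le_norm (hΨ : Abs cs h J Ψ) (hα : Hi cs h J Ψ α) :
    BJ cs h T X J ≤ Subgroup.normalizer (RGD.Sup X ({α} ∪ Ψ) : Set Y) := by
  have hr : ∀ x ∈ {α} ∪ Ψ, IsRoot cs h x := by
    rintro x (hx | hx)
    · rw [Set.mem_singleton_iff] at hx
      subst hx
      exact hα.mem.1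
    · exact (hΨ.sub hx).1
  refine sup_le (R.T_le_normalizer hr) (RGD.Sup_le fun x hx => ?_)
  refine R.le_normalizer hx.1 ?_
  rintro y (hy | hy)
  · rw [Set.mem_singleton_iff] at hy
    subst hy
    exact ⟨hα.mem.1, Or.inr ⟨ne_neg_of_NotJ (PosJ_subset J hx) hα.mem, fun z hz => Or.inr (hα.hi x hx z hz)⟩⟩
  · exact ⟨(hΨ.sub hy).1, Or.inr ⟨ne_neg_of_NotJ (PosJ_subset J hx) (hΨ.sub hy),
      fun z hz => Or.inr (hΨ.abs x (PosJ_subset J hx) y hy z hz)⟩⟩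

theorem conj_mem_iff {K : Subgroup Y} {g v : Y} (hg : g ∈ Subgroup.normalizer (K : Set Y)) : g * v * g⁻¹ ∈ K ↔ v ∈ K :=
  (Subgroup.mem_normalizer_iff.1 hg v).symm

/-- distinct `W_J`-conjugates of `α` are independent modulo `Ψ` -/
theorem inf_act_le [Finite W] (hΨ : Abs cs h J Ψ) (hα : Hi cs h J Ψ α) {w w' : W} (hw : w ∈ WJ cs J) (hw' : w' ∈ WJ cs J)
    (hne : rep cs h w α ≠ rep cs h w' α) :
    RGD.Sup X ({rep cs h w α} ∪ Ψ) ⊓ RGD.Sup X ({rep cs h w' α} ∪ Ψ) ≤ RGD.Sup X Ψ := by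
  have hsub : ∀ w ∈ WJ cs J, ({rep cs h w α} ∪ Ψ : Set (I → ℤ)) ⊆ RGD.Pos cs h := by
    rintro w hw x (hx | hx)
    · rw [Set.mem_singleton_iff] at hx
      rw [hx]
      exact NotJ.subPos (NotJ.act hw hα.mem)
    · exact hΨ.subPos hx
  rw [inf_eq R (hsub w hw) (hsub w' hw') (closed_insert hΨ.closed (hα.mem.1.act w) (hα.cl_act hΨ hw))
    (closed_insert hΨ.closed (hα.mem.1.act w') (hα.cl_act hΨ hw'))]
  refine RGD.Sup_mono ?_
  rintro x ⟨hx | hx, hx' | hx'⟩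
  · rw [Set.mem_singleton_iff] at hx hx'
    exact absurd (hx.symm.trans hx') hne
  · exact hx'
  · exact hx
  · exact hx

/-- conjugation by a representative -/
theorem conj_D (hΨ : Abs cs h J Ψ) (hα : Hi cs h J Ψ α) {w v : W} (hw : w ∈ WJ cs J) (hv : v ∈ WJ cs J) {k : Y}
    (hk : Rp cs R.nsys w k) {t : Y} (ht : t ∈ RGD.Sup X ({rep cs h v α} ∪ Ψ)) :
    k * t * k⁻¹ ∈ RGD.Sup X ({rep cs h (w * v) α} ∪ Ψ) := by
  refine conj_mem_Sup R hk ?_ ?_ ht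
  · rintro x (hx | hx)
    · rw [Set.mem_singleton_iff] at hx
      rw [hx]
      exact hα.mem.1.act v
    · exact (hΨ.sub hx).1
  · rintro x (hx | hx)
    · rw [Set.mem_singleton_iff] at hx
      rw [hx, ← rep_mul_apply]
      exact Or.inl rfl
    · exact Or.inr (hΨ.act w hw x hx)

/-- **the stabiliser of the line `D / B`** -/
theorem stab_mem_PJ [Finite W] (hΨ : Abs cs h J Ψ) (hα : Hi cs h J Ψ α) {y t : Y} (hy : y ∈ LJ cs h T X J)
    (ht : t ∈ RGD.Sup X ({α} ∪ Ψ)) (ht1 : t ∉ RGD.Sup X Ψ) (hyt : y * t * y⁻¹ ∈ RGD.Sup X ({α} ∪ Ψ)) :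
    y ∈ PJ cs h T X {i | i ∈ J ∧ rep cs h (cs.simple i) α = α} := by
  obtain ⟨w, hw, b₁, hb₁, k, hk, b₂, hb₂, rfl⟩ := (mem_LJ R).1 hy
  have hkL : k ∈ LJ cs h T X J := rp_mem_LJ R hw hk
  have hn := LJ_le_norm R hΨ
  have hnB := BJ_le_norm R hΨ hα
  -- `t₂ = b₂ t b₂⁻¹`
  have h1 : b₂ * t * b₂⁻¹ ∈ RGD.Sup X ({α} ∪ Ψ) := (conj_mem_iff R (hnB hb₂)).2 ht
  have h1' : b₂ * t * b₂⁻¹ ∉ RGD.Sup X Ψ := fun h2 => ht1 ((conj_mem_iff R (hn (BJ_le_LJ hb₂))).1 h2)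
  have h2 : k * (b₂ * t * b₂⁻¹) * k⁻¹ ∈ RGD.Sup X ({rep cs h (w * 1) α} ∪ Ψ) := by
    refine conj_D R hΨ hα hw (one_mem _) hk ?_
    rw [map_one, Module.End.one_apply]
    exact h1
  rw [mul_one] at h2
  have h2' : k * (b₂ * t * b₂⁻¹) * k⁻¹ ∉ RGD.Sup X Ψ := fun h3 => h1' ((conj_mem_iff R (hn hkL)).1 h3)
  have h3 : k * (b₂ * t * b₂⁻¹) * k⁻¹ ∈ RGD.Sup X ({α} ∪ Ψ) := by
    refine (conj_mem_iff R (hnB hb₁)).1 ?_
    have e : b₁ * (k * (b₂ * t * b₂⁻¹) * k⁻¹) * b₁⁻¹ = b₁ * k * b₂ * t * (b₁ * k * b₂)⁻¹ := by group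
    rw [e]
    exact hyt
  have h4 : rep cs h w α = α := by
    by_contra hne
    have h5 := inf_act_le R hΨ hα hw (one_mem _) (by rwa [map_one, Module.End.one_apply])
    rw [map_one, Module.End.one_apply] at h5
    exact h2' (h5 ⟨h2, h3⟩)
  have h5 := mem_WJ_of_rep_rel (cs := cs) (h := h) hα.dom hw h4
  exact mul_mem (mul_mem (B_le_PJ (BJ_le_B J hb₁)) (LJ_le_PJ (rp_mem_LJ R h5 hk))) (B_le_PJ (BJ_le_B J hb₂))

/-- **elliptic elements**: `x ∈ L_J` in no proper parabolic subgroup of `L_J` centralises (modulo `B`) no `L_J`-conjugate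
of an element of `D ∖ B`. -/
theorem not_fix [Finite W] (hΨ : Abs cs h J Ψ) (hα : Hi cs h J Ψ α) {x : Y} (hx : x ∈ LJ cs h T X J)
    (hell : ∀ J' ⊆ J, ∀ g : Y, x ∈ cj g (PJ cs h T X J') → J' = J) (hnt : ∃ i ∈ J, rep cs h (cs.simple i) α ≠ α)
    {w : W} (hw : w ∈ WJ cs J) {l t : Y} (hl : l ∈ LJ cs h T X J) (ht : t ∈ RGD.Sup X ({rep cs h w α} ∪ Ψ))
    (hxt : x * (l * t * l⁻¹) * x⁻¹ ∈ cj l (RGD.Sup X ({rep cs h w α} ∪ Ψ))) : t ∈ RGD.Sup X Ψ := by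
  by_contra ht1
  obtain ⟨k, hk⟩ := exists_rp cs R.nsys w
  have hkL : k ∈ LJ cs h T X J := rp_mem_LJ R hw hk
  have hn := LJ_le_norm R hΨ
  have h1 : k⁻¹ * t * k ∈ RGD.Sup X ({α} ∪ Ψ) := by
    have h2 := conj_D R hΨ hα (inv_mem hw) hw hk.inv ht
    rwa [inv_mul_cancel, map_one, Module.End.one_apply, inv_inv] at h2
  have h1' : k⁻¹ * t * k ∉ RGD.Sup X Ψ := fun h2 => ht1 ((conj_mem_iff R (hn (inv_mem hkL))).1 (by rwa [inv_inv]))
  have h2 : (k⁻¹ * l⁻¹ * x * l * k) * (k⁻¹ * t * k) * (k⁻¹ * l⁻¹ * x * l * k)⁻¹ ∈ RGD.Sup X ({α} ∪ Ψ) := by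
    rw [mem_cj] at hxt
    have h3 := conj_D R hΨ hα (inv_mem hw) hw hk.inv hxt
    rw [inv_mul_cancel, map_one, Module.End.one_apply, inv_inv] at h3
    have e : (k⁻¹ * l⁻¹ * x * l * k) * (k⁻¹ * t * k) * (k⁻¹ * l⁻¹ * x * l * k)⁻¹ =
      k⁻¹ * (l⁻¹ * (x * (l * t * l⁻¹) * x⁻¹) * l) * k := by group
    rw [e]
    exact h3
  have h3 := stab_mem_PJ R hΨ hα (mul_mem (mul_mem (mul_mem (mul_mem (inv_mem hkL) (inv_mem hl)) hx) hl) hkL) h1 h1' h2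
  have h4 : x ∈ cj (l * k) (PJ cs h T X {i | i ∈ J ∧ rep cs h (cs.simple i) α = α}) := by
    rw [mem_cj]
    have e : (l * k)⁻¹ * x * (l * k) = k⁻¹ * l⁻¹ * x * l * k := by group
    rw [e]
    exact h3
  have h5 := hell _ (fun i hi => hi.1) _ h4
  obtain ⟨i, hi, hi'⟩ := hnt
  rw [← h5] at hi
  exact hi' hi.2

end Cfsg.Agent.H38.TS
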