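import Cfsg.Agent.H38.TS.Sec
import Cfsg.Agent.H38.TS.LemW

/-!
# S5745: cliques (helper38)

`K` a set of `W_J`-conjugates of the `J`-highest root `α` (modulo `Ψ`) which pairwise differ by roots: every element of
`Sup X (K ∪ Ψ)` outside `Sup X Ψ` is `L_J`-conjugate to an element of one `D_β ∖ B`; hence elliptic elements centralise
nothing of `Sup X (K ∪ Ψ)` outside `B`.
-/

set_option autoImplicit false
set_option linter.unusedSectionVars false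

namespace Cfsg.Agent.H38.TS

open CoxeterSystem Cfsg.Agent.ChevalleyStructure.CoxeterGeom Cfsg.Agent.Tits.Roots Cfsg.Agent.Tits.Core
  Cfsg.Agent.Tits.Exchange Cfsg.Agent.Nodes.Reps Cfsg.Agent.Nodes.BNOf Cfsg.Agent.Nodes.StabComb
  Cfsg.Agent.Nodes.Bruhat Cfsg.Agent.Nodes.OppDec Cfsg.Agent.Nodes.LeviDec Cfsg.Agent.Nodes.NormalForm
  Cfsg.Agent.Nodes.Unique Cfsg.Agent.Nodes.CardSup
open scoped commutatorElement

variable {I W Y : Type*} [Fintype I] [DecidableEq I] [Group W] [Group Y] {M : CoxeterMatrix I}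
  {cs : CoxeterSystem M W} {A : I → I → ℤ} {h : IsCartan M A} {p : ℕ} {T : Subgroup Y} {n : I → Y}
  {X : (I → ℤ) → Subgroup Y} {J : Set I} {Ψ : Set (I → ℤ)} {α : I → ℤ}

theorem rep_fix_of_mem {J₀ : Set I} (h0 : ∀ i ∈ J₀, rep cs h (cs.simple i) α = α) {w : W} (hw : w ∈ WJ cs J₀) :
    rep cs h w α = α := by
  unfold WJ at hw
  induction hw using Subgroup.closure_induction with
  | mem w hw => obtain ⟨i, hi, rfl⟩ := hw; exact h0 i hi
  | one => rw [map_one, Module.End.one_apply]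
  | mul v w _ _ ih1 ih2 => rw [rep_mul_apply, ih2, ih1]
  | inv w _ ih => conv_lhs => rw [← ih]
                  rw [rep_inv_apply]

/-- `K` is a clique of conjugates of `α` -/
structure Clq (cs : CoxeterSystem M W) (h : IsCartan M A) (J : Set I) (Ψ : Set (I → ℤ)) (α : I → ℤ)
    (K : Finset (I → ℤ)) : Prop where
  conj : ∀ β ∈ K, ∃ w ∈ WJ cs J, β = rep cs h w α
  root : ∀ β ∈ K, ∀ β' ∈ K, β ≠ β' → β' - β ∈ RootsJ cs h J
  one : ∀ β ∈ K, ∀ β' ∈ K, β ≠ β' → ∀ z, Btwn cs h (β' - β) β z → z = β' ∨ z ∈ Ψ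
  two : ∀ β ∈ K, ∀ β' ∈ K, ∀ β'' ∈ K, β ≠ β' → β ≠ β'' → ∀ z, Btwn cs h (β' - β) β'' z → z ∈ Ψ
  cl : ∀ β ∈ K, ∀ β' ∈ K, β ≠ β' → ∀ z, Btwn cs h β β' z → z ∈ Ψ

variable (R : RGD cs h p T n X)

include R

/-- an element of a root group of `J` stabilising `D_β` at an element outside `B` is trivial -/
theorem eq_one_of_stab [Finite W] (hΨ : Abs cs h J Ψ) (hα : Hi cs h J Ψ α) {w : W} (hw : w ∈ WJ cs J) {γ β' : I → ℤ}
    (hγ : γ ∈ RootsJ cs h J) (hb : Btwn cs h γ (rep cs h w α) β') (hβ' : β' ∉ Ψ) {u t : Y} (hu : u ∈ X γ)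
    (ht : t ∈ RGD.Sup X ({rep cs h w α} ∪ Ψ)) (ht1 : t ∉ RGD.Sup X Ψ)
    (hut : u * t * u⁻¹ ∈ RGD.Sup X ({rep cs h w α} ∪ Ψ)) : u = 1 := by
  obtain ⟨k, hk⟩ := exists_rp cs R.nsys w
  have hkL : k ∈ LJ cs h T X J := rp_mem_LJ R hw hk
  have hn := LJ_le_norm R hΨ
  set δ := rep cs h w⁻¹ γ with hδ
  have hδJ : δ ∈ RootsJ cs h J := RootsJ.act (inv_mem hw) hγ
  have hy : k⁻¹ * u * k ∈ X δ := R.conj_mem' hk hγ.1 hu
  have hyL : k⁻¹ * u * k ∈ LJ cs h T X J := X_le_LJ hδJ hy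
  have conjD : ∀ s, s ∈ RGD.Sup X ({rep cs h w α} ∪ Ψ) → k⁻¹ * s * k ∈ RGD.Sup X ({α} ∪ Ψ) := by
    intro s hs
    have h2 := conj_D R hΨ hα (inv_mem hw) hw hk.inv hs
    rwa [inv_mul_cancel, map_one, Module.End.one_apply, inv_inv] at h2
  have h1' : k⁻¹ * t * k ∉ RGD.Sup X Ψ := fun h2 => ht1 ((conj_mem_iff R (hn (inv_mem hkL))).1 (by rwa [inv_inv]))
  have h2 : (k⁻¹ * u * k) * (k⁻¹ * t * k) * (k⁻¹ * u * k)⁻¹ ∈ RGD.Sup X ({α} ∪ Ψ) := by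
    have e : (k⁻¹ * u * k) * (k⁻¹ * t * k) * (k⁻¹ * u * k)⁻¹ = k⁻¹ * (u * t * u⁻¹) * k := by group
    rw [e]
    exact conjD _ hut
  have h3 := stab_mem_PJ R hΨ hα hyL (conjD _ ht) h1' h2
  set J₀ : Set I := {i | i ∈ J ∧ rep cs h (cs.simple i) α = α} with hJ0
  -- no positive root of `J` moves `α` to a root outside `Ψ`
  have hpos : ∀ v ∈ WJ cs J, rep cs h v α = α → rep cs h v δ ∉ PosJ cs h J := by
    intro v hv hvα hp
    have h4 : Btwn cs h δ α (rep cs h w⁻¹ β') := by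
      have h5 := hb.act w⁻¹
      rwa [rep_inv_apply] at h5
    have h5 := h4.act v
    rw [hvα] at h5
    have h6 := hα.hi _ hp _ h5
    have h7 := hΨ.act _ (mul_mem hw (inv_mem hv)) _ h6
    rw [← rep_mul_apply, ← rep_mul_apply] at h7
    have e : w * v⁻¹ * v * w⁻¹ = 1 := by group
    rw [e, map_one, Module.End.one_apply] at h7
    exact hβ' h7
  have hδ0 : δ ≤ 0 := by
    rcases hδJ.1.pos_or_neg with h4 | h4
    · exfalso
      refine hpos 1 (one_mem _) (by rw [map_one, Module.End.one_apply]) ?_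
      rw [map_one, Module.End.one_apply]
      exact ⟨hδJ.1, h4, hδJ.2⟩
    · exact h4
  have hN : -δ ∈ NotJ cs h J₀ := by
    rcases mem_PosJ_or_NotJ (cs := cs) (h := h) J₀ hδJ.1.neg (neg_nonneg.2 hδ0) with h4 | h4
    · exfalso
      obtain ⟨wj, hwj⟩ := exists_isLongest cs J₀
      have hsub : wj ∈ WJ cs J := Subgroup.closure_mono (by
        rintro _ ⟨i, hi, rfl⟩
        exact ⟨i, hi.1, rfl⟩) hwj.1
      refine hpos wj hsub (rep_fix_of_mem (fun i hi => hi.2) hwj.1) ?_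
      have h5 := rep_longest_nonpos hwj h4
      rw [map_neg] at h5
      have h6 := RootsJ.act hsub hδJ
      exact ⟨h6.1, neg_nonpos.1 h5, h6.2⟩
    · exact h4
  have h4 : k⁻¹ * u * k = 1 := by
    refine eq_one_of_mem_VNJ_of_mem_PJ R (J := J₀) (RGD.le_Sup (S := NotNJ cs h J₀) ?_ hy) h3
    exact hN
  have e : u = k * (k⁻¹ * u * k) * k⁻¹ := by group
  rw [e, h4]; group

theorem X_inf_B [Finite W] (hΨ : Abs cs h J Ψ) (hα : Hi cs h J Ψ α) {w : W} (hw : w ∈ WJ cs J) {t : Y}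
    (ht : t ∈ X (rep cs h w α)) (ht1 : t ∈ RGD.Sup X Ψ) : t = 1 := by
  have hr := NotJ.act hw hα.mem
  have hcl : Closed cs h ({rep cs h w α} : Set (I → ℤ)) := by
    rintro a ha b hb z hz
    rw [Set.mem_singleton_iff] at ha hb
    subst ha
    rw [hb] at hz
    exact btwn_self hr.1 hz
  have h1 := inf_eq R (S := {rep cs h w α}) (S' := Ψ) (by
    rintro x hx
    rw [Set.mem_singleton_iff] at hx
    rw [hx]
    exact NotJ.subPos hr) hΨ.subPos hcl hΨ.closed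
  have h2 : t ∈ RGD.Sup X ({rep cs h w α} : Set (I → ℤ)) ⊓ RGD.Sup X Ψ := 
    Subgroup.mem_inf.2 ⟨RGD.le_Sup (X := X) (S := {rep cs h w α}) (Set.mem_singleton _) ht, ht1⟩
  rw [h1] at h2
  have h3 : ({rep cs h w α} : Set (I → ℤ)) ∩ Ψ = ∅ := by
    ext x
    simp only [Set.mem_inter_iff, Set.mem_singleton_iff, Set.mem_empty_iff_false, iff_false, not_and]
    rintro rfl
    exact hα.not_mem_act hΨ hw
  rw [h3] at h2
  have h4 : RGD.Sup X (∅ : Set (I → ℤ)) = ⊥ := by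
    rw [eq_bot_iff]
    exact RGD.Sup_le fun z hz => absurd hz (by simp)
  rw [h4] at h2
  exact Subgroup.mem_bot.1 h2

/-- the root groups of the conjugates of `α` normalise `B` -/
theorem X_le_norm_B (hΨ : Abs cs h J Ψ) (hα : Hi cs h J Ψ α) {w : W} (hw : w ∈ WJ cs J) :
    X (rep cs h w α) ≤ Subgroup.normalizer (RGD.Sup X Ψ : Set Y) := by
  have hr := NotJ.act hw hα.mem
  refine R.le_normalizer hr.1 fun y hy => ⟨(hΨ.sub hy).1, Or.inr ⟨?_, fun z hz => hα.cl_act hΨ hw y hy z hz⟩⟩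
  intro he
  have h1 := hr.2.1
  rw [he] at h1
  exact (hΨ.sub hy).1.neg.not_pos_neg h1 (neg_nonpos.2 (hΨ.sub hy).2.1)

theorem mem_D [Finite W] (hΨ : Abs cs h J Ψ) (hα : Hi cs h J Ψ α) {w : W} (hw : w ∈ WJ cs J) {g : Y}
    (hg : g ∈ RGD.Sup X ({rep cs h w α} ∪ Ψ)) : ∃ a ∈ X (rep cs h w α), ∃ b ∈ RGD.Sup X Ψ, g = a * b := by
  have hr := NotJ.act hw hα.mem
  obtain ⟨a, ha, b, hb, e⟩ := (mem_peel R (S := {rep cs h w α} ∪ Ψ) (x := rep cs h w α) (by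
    rintro x (hx | hx)
    · rw [Set.mem_singleton_iff] at hx
      rw [hx]
      exact NotJ.subPos hr
    · exact hΨ.subPos hx) (closed_insert hΨ.closed hr.1 (hα.cl_act hΨ hw)) (Or.inl rfl)).1 hg
  refine ⟨a, ha, b, RGD.Sup_mono ?_ hb, e⟩
  rintro x ⟨hx | hx, hx'⟩
  · exact absurd hx hx'
  · exact hx

/-- **surjectivity of the commutator** -/
theorem comm_surj [Finite W] [Finite Y] (hΨ : Abs cs h J Ψ) (hα : Hi cs h J Ψ α) {w w' : W} (hw : w ∈ WJ cs J)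
    (hw' : w' ∈ WJ cs J) (hγ : rep cs h w' α - rep cs h w α ∈ RootsJ cs h J)
    (h1 : ∀ z, Btwn cs h (rep cs h w' α - rep cs h w α) (rep cs h w α) z → z = rep cs h w' α ∨ z ∈ Ψ)
    (hc : Nat.card (X (rep cs h w' α)) ≤ Nat.card (X (rep cs h w' α - rep cs h w α))) {t : Y}
    (ht : t ∈ X (rep cs h w α)) (ht1 : t ≠ 1) {s : Y} (hs : s ∈ X (rep cs h w' α)) :
    ∃ u ∈ X (rep cs h w' α - rep cs h w α), ∃ b ∈ RGD.Sup X Ψ, ⁅u, t⁆ = s * b := by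
  set γ := rep cs h w' α - rep cs h w α with hγd
  set β := rep cs h w α with hβ
  set β' := rep cs h w' α with hβ'
  have hr := NotJ.act hw hα.mem
  have hr' := NotJ.act hw' hα.mem
  have hb : Btwn cs h γ β β' := ⟨hr'.1, 1, 1, 1, one_pos, one_pos, one_pos, by
    rw [one_smul, one_smul, one_smul, hγd, sub_add_cancel]⟩
  have hne : γ ≠ -β := ne_neg_of_NotJ hγ hr
  have hne' : γ ≠ β := by
    intro e
    obtain ⟨-, -, k, hk, hk0⟩ := hr
    have h2 := hγ.2 k hk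
    rw [e] at h2
    change β k = 0 at h2
    change 0 < β k at hk0
    omega
  have hmem : ∀ u : X γ, ∃ a ∈ X β', ∃ b ∈ RGD.Sup X Ψ, ⁅(u : Y), t⁆ = a * b := by
    intro u
    refine mem_D R hΨ hα hw' ?_
    refine R.btw_le_Sup (S := {β'} ∪ Ψ) (fun z hz => ?_) (R.comm γ β hγ.1 hr.1 hne' hne u u.2 t ht)
    rcases h1 z hz with h2 | h2
    · exact Or.inl h2
    · exact Or.inr h2
  choose f hf g hg hfg using hmem
  let F : X γ → X β' := fun u => ⟨f u, hf u⟩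
  have hn := LJ_le_norm R hΨ
  have hinj : Function.Injective F := by
    intro u u' huu
    have e1 : f u = f u' := congrArg Subtype.val huu
    -- `u'⁻¹ u` stabilises `t B`
    have e2 : (u : Y) * t * (u : Y)⁻¹ * t⁻¹ = f u * g u := by rw [← commutatorElement_def]; exact hfg u
    have e3 : (u' : Y) * t * (u' : Y)⁻¹ * t⁻¹ = f u' * g u' := by rw [← commutatorElement_def]; exact hfg u'
    have e4 : ((u : Y) * t * (u : Y)⁻¹ * t⁻¹) * ((u' : Y) * t * (u' : Y)⁻¹ * t⁻¹)⁻¹ ∈ RGD.Sup X Ψ := by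
      rw [e2, e3, e1]
      have e5 : f u' * g u * (f u' * g u')⁻¹ = f u' * (g u * (g u')⁻¹) * (f u')⁻¹ := by group
      rw [e5]
      exact (conj_mem_iff R (X_le_norm_B R hΨ hα hw' (hf u'))).2 (mul_mem (hg u) (inv_mem (hg u')))
    have hu'L : (u' : Y) ∈ LJ cs h T X J := X_le_LJ hγ u'.2
    have e6 : ((u' : Y)⁻¹ * u) * t * ((u' : Y)⁻¹ * u)⁻¹ * t⁻¹ ∈ RGD.Sup X Ψ := by
      have e7 := (conj_mem_iff R (hn (inv_mem hu'L))).2 e4
      have e8 : (u' : Y)⁻¹ * (((u : Y) * t * (u : Y)⁻¹ * t⁻¹) * ((u' : Y) * t * (u' : Y)⁻¹ * t⁻¹)⁻¹) * ((u' : Y)⁻¹)⁻¹ =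
        ((u' : Y)⁻¹ * u) * t * ((u' : Y)⁻¹ * u)⁻¹ * t⁻¹ := by group
      rwa [e8] at e7
    have htD : t ∈ RGD.Sup X ({β} ∪ Ψ) := RGD.le_Sup (S := {β} ∪ Ψ) (Or.inl rfl) ht
    have e9 : ((u' : Y)⁻¹ * u) * t * ((u' : Y)⁻¹ * u)⁻¹ ∈ RGD.Sup X ({β} ∪ Ψ) := by
      have e10 := mul_mem (RGD.Sup_mono (X := X) (S := Ψ) (S' := {β} ∪ Ψ) (fun x hx => Or.inr hx) e6) htD
      rwa [inv_mul_cancel_right] at e10
    have e11 := eq_one_of_stab R hΨ hα hw hγ hb (hα.not_mem_act hΨ hw') (mul_mem (inv_mem u'.2) u.2) htD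
      (fun h5 => ht1 (X_inf_B R hΨ hα hw ht h5)) e9
    exact Subtype.ext (inv_mul_eq_one.1 e11).symm
  have hsurj := (hinj.bijective_of_nat_card_le hc).2
  obtain ⟨u, hu⟩ := hsurj ⟨s, hs⟩
  refine ⟨u, u.2, g u, hg u, ?_⟩
  have e1 : f u = s := congrArg Subtype.val hu
  rw [← e1]
  exact hfg u

section clique

variable {K : Finset (I → ℤ)}

/-- subsets of a clique together with `Ψ` are closed -/
theorem closed_sub (hΨ : Abs cs h J Ψ) (hα : Hi cs h J Ψ α) (hK : Clq cs h J Ψ α K) {K₁ : Finset (I → ℤ)} (h1 : K₁ ⊆ K) :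
    Closed cs h ((K₁ : Set (I → ℤ)) ∪ Ψ) := by
  rintro a (ha | ha) b (hb | hb) z hz
  · by_cases hab : a = b
    · subst hab
      obtain ⟨w, hw, e⟩ := hK.conj a (h1 ha)
      left
      rw [btwn_self (by rw [e]; exact hα.mem.1.act w) hz]
      exact ha
    · exact Or.inr (hK.cl a (h1 ha) b (h1 hb) hab z hz)
  · obtain ⟨w, hw, e⟩ := hK.conj a (h1 ha)
    rw [e] at hz
    exact Or.inr (hα.cl_act hΨ hw b hb z hz)
  · obtain ⟨w, hw, e⟩ := hK.conj b (h1 hb)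
    rw [e] at hz
    exact Or.inr (hα.cl_act hΨ hw a ha z hz.symm)
  · exact Or.inr (hΨ.closed a ha b hb z hz)

theorem sub_pos (hΨ : Abs cs h J Ψ) (hα : Hi cs h J Ψ α) (hK : Clq cs h J Ψ α K) {K₁ : Finset (I → ℤ)} (h1 : K₁ ⊆ K) :
    ((K₁ : Set (I → ℤ)) ∪ Ψ) ⊆ RGD.Pos cs h := by
  rintro a (ha | ha)
  · obtain ⟨w, hw, e⟩ := hK.conj a (h1 ha)
    rw [e]
    exact NotJ.subPos (NotJ.act hw hα.mem)
  · exact hΨ.subPos ha

theorem mem_insert_sup [Finite W] (hΨ : Abs cs h J Ψ) (hα : Hi cs h J Ψ α) (hK : Clq cs h J Ψ α K) {K₁ : Finset (I → ℤ)}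
    {β : I → ℤ} (h1 : insert β K₁ ⊆ K) {g : Y} (hg : g ∈ RGD.Sup X ((insert β K₁ : Finset (I → ℤ)) ∪ Ψ : Set (I → ℤ))) :
    ∃ a ∈ X β, ∃ c ∈ RGD.Sup X ((K₁ : Set (I → ℤ)) ∪ Ψ), g = a * c := by
  obtain ⟨a, ha, b, hb, e⟩ := (mem_peel R (sub_pos R hΨ hα hK h1) (closed_sub R hΨ hα hK h1)
    (x := β) (Or.inl (by simp))).1 hg
  refine ⟨a, ha, b, RGD.Sup_mono ?_ hb, e⟩
  rintro x ⟨hx | hx, hx'⟩
  · rcases Finset.mem_insert.1 (Finset.mem_coe.1 hx) with h2 | h2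
    · exact absurd h2 hx'
    · exact Or.inl (Finset.mem_coe.2 h2)
  · exact Or.inr hx

/-- **clearing** -/
theorem clear_clique [Finite W] [Finite Y] (hΨ : Abs cs h J Ψ) (hα : Hi cs h J Ψ α) (hK : Clq cs h J Ψ α K)
    (hc : ∀ β ∈ K, ∀ β' ∈ K, β ≠ β' → Nat.card (X β') ≤ Nat.card (X (β' - β))) {β : I → ℤ} (hβ : β ∈ K) {t : Y}
    (ht : t ∈ X β) (ht1 : t ≠ 1) (K₁ : Finset (I → ℤ)) : K₁ ⊆ K → β ∉ K₁ → ∀ c ∈ RGD.Sup X ((K₁ : Set (I → ℤ)) ∪ Ψ),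
      ∃ l ∈ LJ cs h T X J, l * (t * c) * l⁻¹ ∈ RGD.Sup X ({β} ∪ Ψ) ∧ l * (t * c) * l⁻¹ ∉ RGD.Sup X Ψ := by
  obtain ⟨w, hw, eβ⟩ := hK.conj β hβ
  have hrβ : β ∈ NotJ cs h J := by rw [eβ]; exact NotJ.act hw hα.mem
  have hnB := LJ_le_norm R hΨ
  induction K₁ using Finset.induction_on with
  | empty =>
    intro _ _ c hc
    have hcB : c ∈ RGD.Sup X Ψ := by simpa using hc
    refine ⟨1, one_mem _, ?_, ?_⟩
    · rw [one_mul, inv_one, mul_one]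
      exact mul_mem (RGD.le_Sup (S := {β} ∪ Ψ) (Or.inl rfl) ht)
        (RGD.Sup_mono (X := X) (S := Ψ) (S' := {β} ∪ Ψ) (fun x hx => Or.inr hx) hcB)
    · rw [one_mul, inv_one, mul_one]
      intro h1
      have h2 : t ∈ RGD.Sup X Ψ := by
        have h3 := mul_mem h1 (inv_mem hcB)
        rwa [mul_inv_cancel_right] at h3
      rw [eβ] at ht
      exact ht1 (X_inf_B R hΨ hα hw ht h2)
  | insert β' K₂ hβ' ih =>
    intro hsub hnot c hcm
    have hβ'K : β' ∈ K := hsub (Finset.mem_insert_self _ _)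
    have hne : β ≠ β' := fun e => hnot (by rw [e]; exact Finset.mem_insert_self _ _)
    have hsub2 : K₂ ⊆ K := fun x hx => hsub (Finset.mem_insert_of_mem hx)
    have hnot2 : β ∉ K₂ := fun hx => hnot (Finset.mem_insert_of_mem hx)
    obtain ⟨w', hw', eβ'⟩ := hK.conj β' hβ'K
    have hrβ' : β' ∈ NotJ cs h J := by rw [eβ']; exact NotJ.act hw' hα.mem
    obtain ⟨s, hs, c', hc', rfl⟩ := mem_insert_sup R hΨ hα hK hsub hcm
    have hγ := hK.root β hβ β' hβ'K hne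
    obtain ⟨u, hu, b₁, hb₁, hcomm⟩ := comm_surj R hΨ hα hw hw' (by rw [← eβ, ← eβ']; exact hγ)
      (by rw [← eβ, ← eβ']; exact hK.one β hβ β' hβ'K hne) (by rw [← eβ, ← eβ']; exact hc β hβ β' hβ'K hne)
      (t := t) (by rw [← eβ]; exact ht) ht1 (s := s⁻¹) (by rw [← eβ']; exact inv_mem hs)
    rw [← eβ, ← eβ'] at hu
    have huL : u ∈ LJ cs h T X J := X_le_LJ hγ hu
    have hXB : ∀ v ∈ X β, v ∈ Subgroup.normalizer (RGD.Sup X Ψ : Set Y) := by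
      intro v hv
      rw [eβ] at hv
      exact X_le_norm_B R hΨ hα hw hv
    have hXB' : ∀ v ∈ X β', v ∈ Subgroup.normalizer (RGD.Sup X Ψ : Set Y) := by
      intro v hv
      rw [eβ'] at hv
      exact X_le_norm_B R hΨ hα hw' hv
    -- `t⁻¹ s⁻¹ t = s⁻¹ b₂`
    have hneg : ∀ {x y : I → ℤ}, x ∈ NotJ cs h J → y ∈ NotJ cs h J → x ≠ -y := by
      intro x y hx hy e
      have h1 := hx.2.1
      rw [e] at h1
      exact hy.1.neg.not_pos_neg h1 (neg_nonpos.2 hy.2.1)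
    have hb2 : ⁅s, t⁻¹⁆ ∈ RGD.Sup X Ψ :=
      R.btw_le_Sup (fun z hz => hK.cl β hβ β' hβ'K hne z hz.symm)
        (R.comm β' β hrβ'.1 hrβ.1 hne.symm (hneg hrβ' hrβ) s hs t⁻¹ (inv_mem ht))
    -- `[u, s] ∈ B`
    have hγβ' : (β' - β) ≠ β' := by
      intro e
      obtain ⟨-, -, k, hk, hk0⟩ := hrβ
      have h2 := congrFun e k
      rw [Pi.sub_apply] at h2
      omega
    have hb4 : ⁅u, s⁆ ∈ RGD.Sup X Ψ :=
      R.btw_le_Sup (fun z hz => hK.two β hβ β' hβ'K β' hβ'K hne hne z hz)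
        (R.comm (β' - β) β' hγ.1 hrβ'.1 hγβ' (ne_neg_of_NotJ hγ hrβ') u hu s hs)
    -- `u` normalises `Sup X (K₂ ∪ Ψ)`
    have hun : u ∈ Subgroup.normalizer (RGD.Sup X ((K₂ : Set (I → ℤ)) ∪ Ψ) : Set Y) := by
      refine R.le_normalizer hγ.1 ?_ hu
      rintro y (hy | hy)
      · have hyK := hsub2 (Finset.mem_coe.1 hy)
        obtain ⟨v, hv, ev⟩ := hK.conj y hyK
        have hry : y ∈ NotJ cs h J := by rw [ev]; exact NotJ.act hv hα.mem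
        refine ⟨hry.1, Or.inr ⟨ne_neg_of_NotJ hγ hry, fun z hz => ?_⟩⟩
        refine Or.inr (hK.two β hβ β' hβ'K y hyK hne ?_ z hz)
        rintro rfl
        exact hnot2 (Finset.mem_coe.1 hy)
      · exact ⟨(hΨ.sub hy).1, Or.inr ⟨ne_neg_of_NotJ hγ (hΨ.sub hy), fun z hz => Or.inr (hΨ.abs _ hγ y hy z hz)⟩⟩
    have hBle : RGD.Sup X Ψ ≤ RGD.Sup X ((K₂ : Set (I → ℤ)) ∪ Ψ) := RGD.Sup_mono fun x hx => Or.inr hx
    -- the conjugate
    have key : ∃ c'' ∈ RGD.Sup X ((K₂ : Set (I → ℤ)) ∪ Ψ), u * (t * (s * c')) * u⁻¹ = t * c'' := by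
      refine ⟨t⁻¹ * (s⁻¹ * b₁) * t * (⁅u, s⁆ * s) * (u * c' * u⁻¹), mul_mem ?_ ?_, ?_⟩
      · -- `t⁻¹ s⁻¹ b₁ t [u,s] s ∈ B`
        refine hBle ?_
        have e1 : t⁻¹ * (s⁻¹ * b₁) * t * (⁅u, s⁆ * s) =
            (s⁻¹ * (⁅s, t⁻¹⁆ * (t⁻¹ * b₁ * t) * ⁅u, s⁆) * s) := by
          rw [commutatorElement_def s t⁻¹]; group
        rw [e1]
        have h2 : t⁻¹ * b₁ * t ∈ RGD.Sup X Ψ := by
          have := (conj_mem_iff R (v := b₁) (hXB t⁻¹ (inv_mem ht))).2 hb₁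
          rwa [inv_inv] at this
        have := (conj_mem_iff R (v := ⁅s, t⁻¹⁆ * (t⁻¹ * b₁ * t) * ⁅u, s⁆) (hXB' s⁻¹ (inv_mem hs))).2
          (mul_mem (mul_mem hb2 h2) hb4)
        rwa [inv_inv] at this
      · exact (conj_mem_iff R hun).2 hc'
      · have e1 : u * (t * (s * c')) * u⁻¹ = (⁅u, t⁆ * t) * (⁅u, s⁆ * s) * (u * c' * u⁻¹) := by
          rw [commutatorElement_def u t, commutatorElement_def u s]; group
        rw [e1, hcomm]; group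
    obtain ⟨c'', hc'', e2⟩ := key
    obtain ⟨l, hl, hl1, hl2⟩ := ih hsub2 hnot2 c'' hc''
    have e3 : l * u * (t * (s * c')) * (l * u)⁻¹ = l * (t * c'') * l⁻¹ := by
      rw [← e2]; group
    refine ⟨l * u, mul_mem hl huL, ?_, ?_⟩
    · rw [e3]; exact hl1
    · rw [e3]; exact hl2

/-- **elliptic elements centralise nothing in a clique** -/
theorem clique_inf_le [Finite W] [Finite Y] (hΨ : Abs cs h J Ψ) (hα : Hi cs h J Ψ α) (hK : Clq cs h J Ψ α K)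
    (hc : ∀ β ∈ K, ∀ β' ∈ K, β ≠ β' → Nat.card (X β') ≤ Nat.card (X (β' - β)))
    {x : Y} (hx : x ∈ LJ cs h T X J) (hell : ∀ J' ⊆ J, ∀ g : Y, x ∈ cj g (PJ cs h T X J') → J' = J)
    (hnt : ∃ i ∈ J, rep cs h (cs.simple i) α ≠ α) :
    Subgroup.centralizer {x} ⊓ RGD.Sup X ((K : Set (I → ℤ)) ∪ Ψ) ≤ RGD.Sup X Ψ := by
  have key : ∀ K₁ : Finset (I → ℤ), K₁ ⊆ K → ∀ v ∈ Subgroup.centralizer {x}, v ∈ RGD.Sup X ((K₁ : Set (I → ℤ)) ∪ Ψ) →
      v ∈ RGD.Sup X Ψ := by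
    intro K₁
    induction K₁ using Finset.induction_on with
    | empty =>
      intro _ v _ hv
      simpa using hv
    | insert β K₂ hβ ih =>
      intro hsub v hvc hv
      obtain ⟨t, ht, c, hcm, rfl⟩ := mem_insert_sup R hΨ hα hK hsub hv
      by_cases ht1 : t = 1
      · rw [ht1, one_mul] at hvc ⊢
        exact ih (fun y hy => hsub (Finset.mem_insert_of_mem hy)) c hvc hcm
      · exfalso
        have hβK : β ∈ K := hsub (Finset.mem_insert_self _ _)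
        obtain ⟨l, hl, hl1, hl2⟩ := clear_clique R hΨ hα hK hc hβK ht ht1 K₂
          (fun y hy => hsub (Finset.mem_insert_of_mem hy)) hβ c hcm
        obtain ⟨w, hw, eβ⟩ := hK.conj β hβK
        apply hl2
        refine not_fix R hΨ hα hx hell hnt hw (l := l⁻¹) (inv_mem hl) (by rw [← eβ]; exact hl1) ?_
        have e1 : x * (t * c) = (t * c) * x := (Subgroup.mem_centralizer_singleton_iff.1 hvc).symm
        have e2 : x * (l⁻¹ * (l * (t * c) * l⁻¹) * l⁻¹⁻¹) * x⁻¹ = t * c := by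
          have e3 : l⁻¹ * (l * (t * c) * l⁻¹) * l⁻¹⁻¹ = t * c := by group
          rw [e3, e1, mul_inv_cancel_right]
        rw [e2, mem_cj, inv_inv, ← eβ]
        exact hl1
  rintro v ⟨h1, h2⟩
  exact key K (Finset.Subset.refl K) v h1 h2

end clique

end Cfsg.Agent.H38.TS
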