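import Mathlib

/-!
# S5745: fixed points in a chain of sections (helper38)

* `card_step` : `C ∩ K ≤ B ≤ K ≤ A` gives `|C ∩ A| |K| ≤ |A| |C ∩ B|`;
* `card_modEq` : `|A| ≡ |C_A(x)|` mod `r` for `x` of order a power of `r`.
-/

set_option autoImplicit false

namespace Cfsg.Agent.H38.TS

theorem card_step {Y : Type*} [Group Y] [Finite Y] {C A K B : Subgroup Y} (hBK : B ≤ K) (hKA : K ≤ A)
    (hCK : C ⊓ K ≤ B) :
    Nat.card (C ⊓ A : Subgroup Y) * Nat.card K ≤ Nat.card A * Nat.card (C ⊓ B : Subgroup Y) := by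
  have h1 : K.relIndex (C ⊓ A) ≤ K.relIndex A := Subgroup.relIndex_le_of_le_right inf_le_right (by
    rw [Subgroup.relIndex]
    exact Subgroup.index_ne_zero_of_finite)
  have h2 : Nat.card (K ⊓ (C ⊓ A) : Subgroup Y) * K.relIndex (C ⊓ A) = Nat.card (C ⊓ A : Subgroup Y) := by
    have h3 := (K.subgroupOf (C ⊓ A)).card_mul_index
    rw [← Subgroup.relIndex] at h3
    rw [← h3]
    congr 1
    exact Nat.card_congr (Subgroup.subgroupOfEquivOfLe inf_le_right).symm.toEquiv |>.trans (by
      rw [Subgroup.inf_subgroupOf_right])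
  have h3 : Nat.card K * K.relIndex A = Nat.card A := by
    have h4 := (K.subgroupOf A).card_mul_index
    rw [← Subgroup.relIndex] at h4
    rw [← h4]
    congr 1
    exact Nat.card_congr (Subgroup.subgroupOfEquivOfLe hKA).symm.toEquiv
  have h4 : Nat.card (K ⊓ (C ⊓ A) : Subgroup Y) ≤ Nat.card (C ⊓ B : Subgroup Y) :=
    Subgroup.card_le_of_le (le_inf (inf_le_right.trans inf_le_left) (le_trans (by
      rintro g ⟨h1, h2, -⟩
      exact ⟨h2, h1⟩) hCK))
  calc Nat.card (C ⊓ A : Subgroup Y) * Nat.card K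
      = Nat.card (K ⊓ (C ⊓ A) : Subgroup Y) * K.relIndex (C ⊓ A) * Nat.card K := by rw [h2]
    _ ≤ Nat.card (C ⊓ B : Subgroup Y) * K.relIndex A * Nat.card K := by gcongr
    _ = Nat.card (C ⊓ B : Subgroup Y) * Nat.card A := by rw [← h3]; ring
    _ = _ := Nat.mul_comm _ _

theorem card_modEq {Y : Type*} [Group Y] [Finite Y] {r k : ℕ} [Fact r.Prime] {x : Y} (hx : x ^ r ^ k = 1)
    {A : Subgroup Y} (hA : x ∈ Subgroup.normalizer (A : Set Y)) :
    Nat.card A ≡ Nat.card (Subgroup.centralizer {x} ⊓ A : Subgroup Y) [MOD r] := by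
  have hle : Subgroup.zpowers x ≤ Subgroup.normalizer (A : Set Y) := by
    rw [Subgroup.zpowers_le]; exact hA
  have hP : IsPGroup r (Subgroup.zpowers x) := by
    rintro ⟨y, hy⟩
    obtain ⟨m, rfl⟩ := Subgroup.mem_zpowers_iff.1 hy
    refine ⟨k, Subtype.ext ?_⟩
    change (x ^ m) ^ r ^ k = 1
    rw [← zpow_natCast, ← zpow_mul, mul_comm, zpow_mul, zpow_natCast, hx, one_zpow]
  let φ : Subgroup.zpowers x →* MulAut A := A.normalizerMonoidHom.comp (Subgroup.inclusion hle)
  letI : MulAction (Subgroup.zpowers x) A := MulAction.compHom A φ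
  have h1 := hP.card_modEq_card_fixedPoints A
  have h2 : Nat.card (MulAction.fixedPoints (Subgroup.zpowers x) A) =
      Nat.card (Subgroup.centralizer {x} ⊓ A : Subgroup Y) := by
    have key : ∀ a : A, a ∈ MulAction.fixedPoints (Subgroup.zpowers x) A ↔ (a : Y) ∈ Subgroup.centralizer {x} := by
      intro a
      have e : ∀ g : Subgroup.zpowers x, ((g • a : A) : Y) = g * a * (g : Y)⁻¹ := fun g => rfl
      rw [MulAction.mem_fixedPoints, Subgroup.mem_centralizer_singleton_iff]
      constructor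
      · intro h3
        have h4 := congrArg Subtype.val (h3 ⟨x, Subgroup.mem_zpowers x⟩)
        rw [e] at h4
        have h5 : x * a = a * x := mul_inv_eq_iff_eq_mul.1 h4
        exact h5.symm
      · intro h3 g
        apply Subtype.ext
        rw [e]
        obtain ⟨m, hm⟩ := Subgroup.mem_zpowers_iff.1 g.2
        have h4 : Commute (a : Y) (g : Y) := by
          rw [← hm]
          exact (show Commute (a : Y) x from h3).zpow_right m
        rw [← h4.eq, mul_inv_cancel_right]
    exact Nat.card_congr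
      { toFun := fun a => ⟨a.1.1, (key a.1).1 a.2, a.1.2⟩
        invFun := fun a => ⟨⟨a.1, a.2.2⟩, (key _).2 a.2.1⟩
        left_inv := fun a => rfl
        right_inv := fun a => rfl }
  rwa [h2] at h1

/-- exponents: `|A| = p ^ a`, `|C_A(x)| = p ^ a'` gives `ord_r(p) ∣ a - a'`. -/
theorem orderOf_dvd_sub {r p a a' : ℕ} [Fact r.Prime] (hp : p.Coprime r) (hle : a' ≤ a) (h : p ^ a ≡ p ^ a' [MOD r]) :
    orderOf (p : ZMod r) ∣ a - a' := by
  rw [orderOf_dvd_iff_pow_eq_one]
  have h1 : ((p : ZMod r)) ^ a = (p : ZMod r) ^ a' := by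
    have := (ZMod.natCast_eq_natCast_iff _ _ _).2 h
    push_cast at this
    exact this
  have hu : IsUnit (p : ZMod r) := (ZMod.isUnit_iff_coprime p r).2 hp
  have h2 : (p : ZMod r) ^ a' * (p : ZMod r) ^ (a - a') = (p : ZMod r) ^ a' * 1 := by
    rw [← pow_add, Nat.add_sub_cancel' hle, h1, mul_one]
  exact (hu.pow a').mul_left_cancel h2

end Cfsg.Agent.H38.TS
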